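/-
Direct decomposability of the even part of a product of "good" two-groups.
-/
import Cfsg.Agent.EqLemmas
import Cfsg.Prelude.Def_TwoFusion
import Mathlib.Algebra.Group.Subgroup.Finite
import Mathlib.Data.Int.Order.Units
import Mathlib.Algebra.BigOperators.Pi
import Mathlib.GroupTheory.Commutator.Basic

set_option autoImplicit false

namespace Cfsg.Agent.AltSylowDecomp

open scoped commutatorElement

/-- A group that is a direct product of two nontrivial subgroups. -/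
def Dec (G : Type*) [Group G] : Prop :=
  ∃ A B : Subgroup G, A ≠ ⊥ ∧ B ≠ ⊥ ∧ (∀ a ∈ A, ∀ b ∈ B, a * b = b * a) ∧ A ⊓ B = ⊥ ∧ A ⊔ B = ⊤

theorem Dec.congr {G H : Type*} [Group G] [Group H] (e : G ≃* H) (h : Dec G) : Dec H := by
  obtain ⟨A, B, hA, hB, hc, hi, hs⟩ := h
  refine ⟨A.map e.toMonoidHom, B.map e.toMonoidHom, ?_, ?_, ?_, ?_, ?_⟩
  · rwa [ne_eq, Subgroup.map_eq_bot_iff_of_injective _ (f := e.toMonoidHom) e.injective]
  · rwa [ne_eq, Subgroup.map_eq_bot_iff_of_injective _ (f := e.toMonoidHom) e.injective]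
  · rintro _ ⟨a, ha, rfl⟩ _ ⟨b, hb, rfl⟩
    rw [← map_mul, hc a ha b hb, map_mul]
  · rw [← Subgroup.map_inf _ _ e.toMonoidHom e.injective, hi, Subgroup.map_bot]
  · rw [← Subgroup.map_sup, hs, Subgroup.map_top_of_surjective _ e.surjective]

theorem dec_congr {G H : Type*} [Group G] [Group H] (e : G ≃* H) : Dec G ↔ Dec H :=
  ⟨Dec.congr e, Dec.congr e.symm⟩

theorem dec_of_subgroup {G : Type*} [Group G] (P : Subgroup G) :
    (∃ S₁ S₂ : Subgroup G, S₁ ≠ ⊥ ∧ S₂ ≠ ⊥ ∧ Cfsg.IsInternalDirectProduct S₁ S₂ P) ↔ Dec P := by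
  constructor
  · rintro ⟨A, B, hA, hB, hAP, hBP, hc, hi, hs⟩
    refine ⟨A.subgroupOf P, B.subgroupOf P, ?_, ?_, ?_, ?_, ?_⟩
    · rw [ne_eq, Subgroup.subgroupOf_eq_bot, disjoint_iff, inf_eq_left.2 hAP]; exact hA
    · rw [ne_eq, Subgroup.subgroupOf_eq_bot, disjoint_iff, inf_eq_left.2 hBP]; exact hB
    · intro a ha b hb; exact Subtype.ext (hc a ha b hb)
    · apply Subgroup.map_injective P.subtype_injective
      rw [Subgroup.map_inf _ _ _ P.subtype_injective, Subgroup.map_subgroupOf_eq_of_le hAP,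
        Subgroup.map_subgroupOf_eq_of_le hBP, hi, Subgroup.map_bot]
    · apply Subgroup.map_injective P.subtype_injective
      rw [Subgroup.map_sup, Subgroup.map_subgroupOf_eq_of_le hAP,
        Subgroup.map_subgroupOf_eq_of_le hBP, hs, ← MonoidHom.range_eq_map, Subgroup.range_subtype]
  · rintro ⟨A, B, hA, hB, hc, hi, hs⟩
    refine ⟨A.map P.subtype, B.map P.subtype, ?_, ?_, Subgroup.map_subtype_le _, Subgroup.map_subtype_le _,
      ?_, ?_, ?_⟩
    · rwa [ne_eq, Subgroup.map_eq_bot_iff_of_injective _ P.subtype_injective]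
    · rwa [ne_eq, Subgroup.map_eq_bot_iff_of_injective _ P.subtype_injective]
    · rintro _ ⟨a, ha, rfl⟩ _ ⟨b, hb, rfl⟩
      exact congrArg Subtype.val (hc a ha b hb)
    · rw [← Subgroup.map_inf _ _ _ P.subtype_injective, hi, Subgroup.map_bot]
    · rw [← Subgroup.map_sup, hs, ← MonoidHom.range_eq_map, Subgroup.range_subtype]

theorem normal_of_factor {G : Type*} [Group G] {A B : Subgroup G}
    (hc : ∀ a ∈ A, ∀ b ∈ B, a * b = b * a) (hs : A ⊔ B = ⊤) : A.Normal := by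
  constructor
  intro n hn g
  have hg : g ∈ A ⊔ B := hs ▸ Subgroup.mem_top g
  have hB : B ≤ Subgroup.centralizer (A : Set G) := fun b hb => fun a ha => hc a ha b hb
  have : A ⊔ B ≤ Subgroup.normalizer (A : Set G) :=
    sup_le Subgroup.le_normalizer (hB.trans (Subgroup.centralizer_le_normalizer _))
  exact ((Subgroup.mem_normalizer_iff.1 (this hg)) n).1 hn

/-- A good group: center of order two inside the commutators with even elements, sign surjective,
no proper central decomposition. -/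
structure Good {G : Type*} [Group G] (ε : G →* ℤˣ) (z : G) : Prop where
  ne_one : z ≠ 1
  center : ∀ x : G, x ∈ Subgroup.center G → x = 1 ∨ x = z
  z_mem : z ∈ Subgroup.center G
  even : ε z = 1
  odd : ∃ x, ε x = -1
  comm : ∃ u s : G, ε s = 1 ∧ ⁅u, s⁆ = z
  nonab : ∃ x, x ∉ Subgroup.center G
  ncp : ∀ A B : Subgroup G, (∀ a ∈ A, ∀ b ∈ B, a * b = b * a) → A ⊔ B = ⊤ →
    A ≤ Subgroup.center G ∨ B ≤ Subgroup.center G

theorem commutator_mem_right {G : Type*} [Group G] {A B : Subgroup G}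
    (hA : A ≤ Subgroup.center G) (hs : A ⊔ B = ⊤) (g h : G) : ⁅g, h⁆ ∈ B := by
  have hc : ∀ a ∈ A, ∀ x : G, a * x = x * a := fun a ha x => (Subgroup.mem_center_iff.1 (hA ha) x).symm
  have hd : ∀ x : G, ∃ a ∈ A, ∃ b ∈ B, a * b = x := by
    intro x
    haveI : A.Normal := normal_of_factor (fun a ha b _ => hc a ha b) hs
    exact Subgroup.mem_sup_of_normal_left.1 (hs.symm ▸ Subgroup.mem_top x)
  obtain ⟨a, ha, b, hb, rfl⟩ := hd g
  obtain ⟨c, hcA, d, hdB, rfl⟩ := hd h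
  have : ⁅a * b, c * d⁆ = ⁅b, d⁆ := by
    have hac : ∀ x : G, Commute a x := hc a ha
    have hcc : ∀ x : G, Commute c x := hc c hcA
    rw [commutatorElement_def, commutatorElement_def, mul_inv_rev, mul_inv_rev]
    calc a * b * (c * d) * (b⁻¹ * a⁻¹) * (d⁻¹ * c⁻¹)
        = a * (b * c) * d * b⁻¹ * (a⁻¹ * d⁻¹) * c⁻¹ := by group
      _ = a * (c * b) * d * b⁻¹ * (d⁻¹ * a⁻¹) * c⁻¹ := by
          rw [(hcc b).eq, ((hac d⁻¹).inv_left).eq]
      _ = a * c * (b * d * b⁻¹ * d⁻¹) * (a * c)⁻¹ * ((a * c) * a⁻¹ * c⁻¹) := by group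
      _ = b * d * b⁻¹ * d⁻¹ := by
          have hk : Commute (a * c) (b * d * b⁻¹ * d⁻¹) := (hac _).mul_left (hcc _)
          rw [hk.eq, (hac c).eq]; group
  rw [this]
  exact Subgroup.mul_mem _ (Subgroup.mul_mem _ (Subgroup.mul_mem _ hb hdB) (inv_mem hb)) (inv_mem hdB)

theorem not_dec_of_good {G : Type*} [Group G] {ε : G →* ℤˣ} {z : G} (hG : Good ε z) : ¬ Dec G := by
  rintro ⟨A, B, hA, hB, hc, hi, hs⟩
  wlog hAc : A ≤ Subgroup.center G generalizing A B with H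
  · exact H B A hB hA (fun a ha b hb => (hc b hb a ha).symm) (by rw [inf_comm, hi]) (by rw [sup_comm, hs])
      ((hG.ncp A B hc hs).resolve_left hAc)
  obtain ⟨a, ha, ha1⟩ := (Subgroup.bot_or_exists_ne_one A).resolve_left hA
  have haz : a = z := (hG.center a (hAc ha)).resolve_left ha1
  obtain ⟨u, s, -, hus⟩ := hG.comm
  have : a ∈ A ⊓ B := ⟨ha, by rw [haz, ← hus]; exact commutator_mem_right hAc hs u s⟩
  rw [hi, Subgroup.mem_bot] at this
  exact ha1 this

theorem dec_prod {G H : Type*} [Group G] [Group H] [Nontrivial G] [Nontrivial H] : Dec (G × H) := by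
  refine ⟨(MonoidHom.inl G H).range, (MonoidHom.inr G H).range, ?_, ?_, ?_, ?_, ?_⟩
  · obtain ⟨g, hg⟩ := exists_ne (1 : G)
    intro h
    have : (g, (1 : H)) ∈ (⊥ : Subgroup (G × H)) := h ▸ ⟨g, rfl⟩
    exact hg (congrArg Prod.fst (Subgroup.mem_bot.1 this))
  · obtain ⟨g, hg⟩ := exists_ne (1 : H)
    intro h
    have : ((1 : G), g) ∈ (⊥ : Subgroup (G × H)) := h ▸ ⟨g, rfl⟩
    exact hg (congrArg Prod.snd (Subgroup.mem_bot.1 this))
  · rintro _ ⟨a, rfl⟩ _ ⟨b, rfl⟩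
    ext <;> simp
  · rw [eq_bot_iff]
    rintro _ ⟨⟨a, rfl⟩, ⟨b, hb⟩⟩
    have := congrArg Prod.fst hb
    simp only [MonoidHom.inr_apply, MonoidHom.inl_apply] at this
    simp [← this]
  · rw [eq_top_iff]
    rintro ⟨g, h⟩ -
    have : (g, h) = MonoidHom.inl G H g * MonoidHom.inr G H h := by simp
    rw [this]
    exact Subgroup.mul_mem_sup ⟨g, rfl⟩ ⟨h, rfl⟩

section Pi

variable {ι : Type*} [DecidableEq ι] {G : ι → Type*} [∀ i, Group (G i)]

theorem dec_pi [∀ i, Nontrivial (G i)] {i j : ι} (hij : i ≠ j) : Dec (∀ i, G i) := by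
  classical
  haveI : Nontrivial (∀ x : {x // x = i}, G x) := by
    obtain ⟨g, hg⟩ := exists_ne (1 : G i)
    exact ⟨⟨Pi.mulSingle ⟨i, rfl⟩ g, 1, fun h => hg (by simpa using congrFun h ⟨i, rfl⟩)⟩⟩
  haveI : Nontrivial (∀ x : {x // ¬ x = i}, G x) := by
    obtain ⟨g, hg⟩ := exists_ne (1 : G j)
    exact ⟨⟨Pi.mulSingle ⟨j, hij.symm⟩ g, 1,
      fun h => hg (by simpa using congrFun h ⟨j, hij.symm⟩)⟩⟩
  refine Dec.congr ?_ (dec_prod (G := ∀ x : {x // x = i}, G x) (H := ∀ x : {x // ¬ x = i}, G x))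
  exact
    { toEquiv := (Equiv.piEquivPiSubtypeProd (fun x => x = i) G).symm
      map_mul' := fun a b => by
        funext x
        by_cases h : x = i <;> simp [Equiv.piEquivPiSubtypeProd, h] }

variable [Fintype ι] (ε : ∀ i, G i →* ℤˣ)

/-- The product of the signs. -/
def sgn : (∀ i, G i) →* ℤˣ := ∏ i, (ε i).comp (Pi.evalMonoidHom G i)

theorem sgn_apply (x : ∀ i, G i) : sgn ε x = ∏ i, ε i (x i) := by
  simp [sgn, MonoidHom.finsetProd_apply]

theorem sgn_single (i : ι) (a : G i) : sgn ε (Pi.mulSingle i a) = ε i a := by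
  rw [sgn_apply, Fintype.prod_eq_single i]
  · simp
  · intro j hj; simp [Pi.mulSingle_eq_of_ne hj]

variable {ε} {z : ∀ i, G i}

theorem all_central_false (hG : ∀ i, Good (ε i) (z i)) {i₀ j₀ : ι} (hij : i₀ ≠ j₀)
    (A B : Subgroup (sgn ε).ker) (hA : A ≠ ⊥) (hi : A ⊓ B = ⊥) (hs : A ⊔ B = ⊤)
    (hAc : ∀ a ∈ A, ∀ i, (a : ∀ i, G i) i ∈ Subgroup.center (G i)) : False := by
  have hAZ : A ≤ Subgroup.center (sgn ε).ker := fun a ha =>
    Subgroup.mem_center_iff.2 fun x => Subtype.ext (funext fun i => Subgroup.mem_center_iff.1 (hAc a ha i) _)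
  have hsingle : ∀ i, Pi.mulSingle i (z i) ∈ B.map (sgn ε).ker.subtype := by
    intro i
    obtain ⟨u, s, hs1, hus⟩ := (hG i).comm
    obtain ⟨j, hj⟩ : ∃ j, j ≠ i := by
      by_cases h : i₀ = i
      · exact ⟨j₀, fun e => hij (h.trans e.symm)⟩
      · exact ⟨i₀, h⟩
    obtain ⟨c, hc⟩ : ∃ c : G j, ε j c = ε i u := by
      rcases Int.units_eq_one_or (ε i u) with h | h
      · exact ⟨1, by rw [map_one, h]⟩
      · rw [h]; exact (hG j).odd
    have hp : Pi.mulSingle i u * Pi.mulSingle j c ∈ (sgn ε).ker := by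
      rw [MonoidHom.mem_ker, map_mul, sgn_single, sgn_single, hc, Int.units_mul_self]
    have hq : Pi.mulSingle i s ∈ (sgn ε).ker := by rw [MonoidHom.mem_ker, sgn_single, hs1]
    refine ⟨_, commutator_mem_right hAZ hs ⟨_, hp⟩ ⟨_, hq⟩, ?_⟩
    rw [map_commutatorElement]
    funext x
    simp only [Subgroup.coe_subtype, commutatorElement_def, Pi.mul_apply, Pi.inv_apply]
    by_cases hx : x = i
    · subst hx; simp [Pi.mulSingle_eq_of_ne (Ne.symm hj), ← hus, commutatorElement_def]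
    · simp [Pi.mulSingle_eq_of_ne hx]
  obtain ⟨a, ha, ha1⟩ := (Subgroup.bot_or_exists_ne_one A).resolve_left hA
  obtain ⟨b, hb, hab⟩ : (a : ∀ i, G i) ∈ B.map (sgn ε).ker.subtype := by
    refine Subgroup.pi_mem_of_mulSingle_mem _ fun i => ?_
    rcases (hG i).center _ (hAc a ha i) with h | h <;> rw [h]
    · rw [Pi.mulSingle_one]; exact one_mem _
    · exact hsingle i
  have : a ∈ A ⊓ B := ⟨ha, Subtype.ext hab ▸ hb⟩
  rw [hi, Subgroup.mem_bot] at this
  exact ha1 this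

theorem not_dec_kernel (hG : ∀ i, Good (ε i) (z i)) {i₀ j₀ : ι} (hij : i₀ ≠ j₀) :
    ¬ Dec (sgn ε).ker := by
  rintro ⟨A, B, hA, hB, hc, hi, hs⟩
  let pr : ∀ i, (sgn ε).ker →* G i := fun i => (Pi.evalMonoidHom G i).comp (sgn ε).ker.subtype
  have hsurj : ∀ i, Function.Surjective (pr i) := by
    intro i g
    obtain ⟨j, hj⟩ : ∃ j, j ≠ i := by
      by_cases h : i₀ = i
      · exact ⟨j₀, fun e => hij (h.trans e.symm)⟩
      · exact ⟨i₀, h⟩
    obtain ⟨c, hc'⟩ : ∃ c : G j, ε j c = ε i g := by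
      rcases Int.units_eq_one_or (ε i g) with h | h
      · exact ⟨1, by rw [map_one, h]⟩
      · rw [h]; exact (hG j).odd
    refine ⟨⟨Pi.mulSingle i g * Pi.mulSingle j c, ?_⟩, ?_⟩
    · rw [MonoidHom.mem_ker, map_mul, sgn_single, sgn_single, hc', Int.units_mul_self]
    · simp [pr, Pi.mulSingle_eq_of_ne (Ne.symm hj)]
  have hproj : ∀ i, A.map (pr i) ≤ Subgroup.center (G i) ∨ B.map (pr i) ≤ Subgroup.center (G i) := by
    intro i
    refine (hG i).ncp _ _ ?_ ?_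
    · rintro _ ⟨a, ha, rfl⟩ _ ⟨b, hb, rfl⟩
      rw [← map_mul, hc a ha b hb, map_mul]
    · rw [← Subgroup.map_sup, hs, Subgroup.map_top_of_surjective _ (hsurj i)]
  classical
  let J : Finset ι := Finset.univ.filter fun i => A.map (pr i) ≤ Subgroup.center (G i)
  by_cases hJ : ∀ i, i ∈ J
  · exact all_central_false hG hij A B hA hi hs fun a ha i =>
      (Finset.mem_filter.1 (hJ i)).2 ⟨a, ha, rfl⟩
  push Not at hJ
  obtain ⟨i, hiJ⟩ := hJ
  by_cases hJ' : ∀ j, j ∉ J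
  · exact all_central_false hG hij B A hB (by rw [inf_comm, hi]) (by rw [sup_comm, hs]) fun b hb j =>
      ((hproj j).resolve_left fun h => hJ' j (Finset.mem_filter.2 ⟨Finset.mem_univ _, h⟩)) ⟨b, hb, rfl⟩
  push Not at hJ'
  obtain ⟨j, hjJ⟩ := hJ'
  let χ : (sgn ε).ker →* ℤˣ := ∏ k ∈ J, (ε k).comp (pr k)
  have heven : ∀ k, ∀ x : G k, x ∈ Subgroup.center (G k) → ε k x = 1 := by
    intro k x hx
    rcases (hG k).center x hx with h | h <;> subst h
    · exact map_one _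
    · exact (hG k).even
  have hχA : A ≤ χ.ker := by
    intro a ha
    rw [MonoidHom.mem_ker, MonoidHom.finsetProd_apply]
    exact Finset.prod_eq_one fun k hk => heven k _ ((Finset.mem_filter.1 hk).2 ⟨a, ha, rfl⟩)
  have hχB : B ≤ χ.ker := by
    intro b hb
    rw [MonoidHom.mem_ker, MonoidHom.finsetProd_apply]
    have h1 : sgn ε (b : ∀ i, G i) = 1 := b.2
    rw [sgn_apply, ← Finset.prod_mul_prod_compl J] at h1
    rw [Finset.prod_eq_one (s := Jᶜ) (f := fun k => ε k ((b : ∀ i, G i) k)) (fun k hk => heven k _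
      (((hproj k).resolve_left fun h => Finset.mem_compl.1 hk (Finset.mem_filter.2 ⟨Finset.mem_univ _, h⟩))
        ⟨b, hb, rfl⟩)), mul_one] at h1
    simpa [pr] using h1
  have htop : ∀ p, χ p = 1 := fun p =>
    (sup_le hχA hχB) (hs.symm ▸ Subgroup.mem_top p)
  obtain ⟨a, ha⟩ := (hG i).odd
  obtain ⟨c, hc'⟩ := (hG j).odd
  have hp : Pi.mulSingle i a * Pi.mulSingle j c ∈ (sgn ε).ker := by
    rw [MonoidHom.mem_ker, map_mul, sgn_single, sgn_single, ha, hc']; decide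
  have := htop ⟨_, hp⟩
  rw [MonoidHom.finsetProd_apply, Finset.prod_eq_single j] at this
  · simp [pr, Pi.mulSingle_eq_of_ne (show j ≠ i from fun e => hiJ (e ▸ hjJ)), hc'] at this
  · intro k hk hkj
    simp [pr, Pi.mulSingle_eq_of_ne hkj, Pi.mulSingle_eq_of_ne (show k ≠ i from fun e => hiJ (e ▸ hk))]
  · exact fun h => absurd hjJ h

end Pi

end Cfsg.Agent.AltSylowDecomp
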