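/-
The iterated wreath products of the group of order two, as permutation groups.
-/
import Cfsg.Agent.Lib.AltSylowDecomp.Abstract
import Mathlib.GroupTheory.Perm.Sign
import Mathlib.GroupTheory.PGroup

set_option autoImplicit false

namespace Cfsg.Agent.AltSylowDecomp

open Equiv Equiv.Perm

variable {α : Type} [Fintype α] [DecidableEq α]

/-- A pair of permutations acting on two copies. -/
def pk (a b : Perm α) : Perm (α ⊕ α) := Equiv.sumCongr a b

/-- The exchange of two copies. -/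
def sw : Perm (α ⊕ α) := Equiv.sumComm α α

omit [Fintype α] [DecidableEq α] in
theorem pk_mul (a b c d : Perm α) : pk a b * pk c d = pk (a * c) (b * d) := by
  ext x; rcases x with x | x <;> rfl

omit [Fintype α] [DecidableEq α] in
@[simp] theorem pk_one : pk (1 : Perm α) 1 = 1 := by
  ext x; rcases x with x | x <;> rfl

omit [Fintype α] [DecidableEq α] in
theorem sw_pk (a b : Perm α) : sw * pk a b = pk b a * sw := by
  ext x; rcases x with x | x <;> rfl

omit [Fintype α] [DecidableEq α] in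
@[simp] theorem sw_sq : (sw : Perm (α ⊕ α)) * sw = 1 := by
  ext x; rcases x with x | x <;> rfl

omit [Fintype α] [DecidableEq α] in
theorem pk_inj {a b c d : Perm α} (h : pk a b = pk c d) : a = c ∧ b = d := by
  constructor <;> ext x
  · simpa [pk] using Equiv.congr_fun h (.inl x)
  · simpa [pk] using Equiv.congr_fun h (.inr x)

omit [Fintype α] [DecidableEq α] in
theorem pk_ne_sw [Nonempty α] (a b c d : Perm α) : pk a b ≠ pk c d * sw := by
  intro h
  obtain ⟨x⟩ := ‹Nonempty α›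
  simpa [pk, sw] using Equiv.congr_fun h (.inl x)

omit [Fintype α] [DecidableEq α] in
theorem pk_mul_sw_inj {a b c d : Perm α} (h : pk a b * sw = pk c d * sw) : a = c ∧ b = d :=
  pk_inj (mul_right_cancel h)

theorem sign_pk (a b : Perm α) : sign (pk a b) = sign a * sign b := sign_sumCongr a b

theorem sign_sw : sign (sw : Perm (α ⊕ α)) = (-1) ^ Fintype.card α := by
  let e : α × Bool ≃ α ⊕ α := (Equiv.prodComm α Bool).trans (Equiv.boolProdEquivSum α)
  have h : (sw : Perm (α ⊕ α)) = e.permCongr (Equiv.prodCongrRight fun _ => Equiv.swap false true) := by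
    ext x
    rcases x with x | x <;> simp [e, sw, Equiv.permCongr_apply, Equiv.prodCongrRight]
  rw [h, sign_permCongr, sign_prodCongrRight]
  simp

variable (V : Subgroup (Perm α))

/-- The wreath product of `V` with the exchange. -/
def wr : Subgroup (Perm (α ⊕ α)) where
  carrier := {g | ∃ a ∈ V, ∃ b ∈ V, g = pk a b ∨ g = pk a b * sw}
  one_mem' := ⟨1, one_mem _, 1, one_mem _, .inl pk_one.symm⟩
  mul_mem' := by
    rintro g h ⟨a, ha, b, hb, rfl | rfl⟩ ⟨c, hc, d, hd, rfl | rfl⟩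
    · exact ⟨_, mul_mem ha hc, _, mul_mem hb hd, .inl (pk_mul a b c d)⟩
    · exact ⟨_, mul_mem ha hc, _, mul_mem hb hd, .inr (by rw [← mul_assoc, pk_mul])⟩
    · exact ⟨_, mul_mem ha hd, _, mul_mem hb hc, .inr (by rw [mul_assoc, sw_pk, ← mul_assoc, pk_mul])⟩
    · exact ⟨_, mul_mem ha hd, _, mul_mem hb hc, .inl (by
        rw [mul_assoc, ← mul_assoc sw, sw_pk, mul_assoc, sw_sq, mul_one, pk_mul])⟩
  inv_mem' := by
    rintro g ⟨a, ha, b, hb, rfl | rfl⟩
    · exact ⟨_, inv_mem ha, _, inv_mem hb, .inl (inv_eq_of_mul_eq_one_right (by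
        rw [pk_mul, mul_inv_cancel, mul_inv_cancel, pk_one]))⟩
    · exact ⟨_, inv_mem hb, _, inv_mem ha, .inr (inv_eq_of_mul_eq_one_right (by
        rw [mul_assoc, ← mul_assoc sw, sw_pk, mul_assoc, sw_sq, mul_one, pk_mul, mul_inv_cancel,
          mul_inv_cancel, pk_one]))⟩

variable {V}

omit [Fintype α] [DecidableEq α] in
theorem pk_mem {a b : Perm α} (ha : a ∈ V) (hb : b ∈ V) : pk a b ∈ wr V := ⟨a, ha, b, hb, .inl rfl⟩

omit [Fintype α] [DecidableEq α] in
theorem sw_mem : sw ∈ wr V := ⟨1, one_mem _, 1, one_mem _, .inr (by rw [pk_one, one_mul])⟩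

theorem card_wr [Nonempty α] : Nat.card (wr V) = 2 * Nat.card V ^ 2 := by
  let f : (V × V) × Bool → wr V := fun p =>
    if p.2 then ⟨pk p.1.1 p.1.2 * sw, mul_mem (pk_mem p.1.1.2 p.1.2.2) sw_mem⟩
      else ⟨pk p.1.1 p.1.2, pk_mem p.1.1.2 p.1.2.2⟩
  have hf : Function.Bijective f := by
    constructor
    · rintro ⟨⟨a, b⟩, s⟩ ⟨⟨c, d⟩, t⟩ h
      cases s <;> cases t <;> simp only [f, Bool.false_eq_true, if_false, if_true, Subtype.mk.injEq] at h
      · obtain ⟨h1, h2⟩ := pk_inj h; rw [Subtype.ext h1, Subtype.ext h2]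
      · exact absurd h (pk_ne_sw _ _ _ _)
      · exact absurd h.symm (pk_ne_sw _ _ _ _)
      · obtain ⟨h1, h2⟩ := pk_mul_sw_inj h; rw [Subtype.ext h1, Subtype.ext h2]
    · rintro ⟨g, a, ha, b, hb, rfl | rfl⟩
      · exact ⟨((⟨a, ha⟩, ⟨b, hb⟩), false), rfl⟩
      · exact ⟨((⟨a, ha⟩, ⟨b, hb⟩), true), rfl⟩
  rw [← Nat.card_congr (Equiv.ofBijective f hf), Nat.card_prod, Nat.card_prod, Nat.card_eq_fintype_card (α := Bool),
    Fintype.card_bool]
  ring

/-- `w` generates the center of `V`, which has order two. -/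
structure Base (V : Subgroup (Perm α)) (w : Perm α) : Prop where
  mem : w ∈ V
  ne_one : w ≠ 1
  sq : w * w = 1
  comm : ∀ x ∈ V, x * w = w * x
  center : ∀ x ∈ V, (∀ y ∈ V, y * x = x * y) → x = 1 ∨ x = w
  odd : ∃ v ∈ V, sign v = -1

variable {w : Perm α}

omit [Fintype α] [DecidableEq α] in
theorem nonempty_of_ne {w : Perm α} (h : w ≠ 1) : Nonempty α := by
  by_contra hn
  rw [not_nonempty_iff] at hn
  exact h (Equiv.ext fun x => isEmptyElim x)

omit [Fintype α] [DecidableEq α] in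
theorem zz_comm (hw : ∀ x ∈ V, x * w = w * x) {g : Perm (α ⊕ α)} (hg : g ∈ wr V) :
    g * pk w w = pk w w * g := by
  obtain ⟨a, ha, b, hb, rfl | rfl⟩ := hg
  · rw [pk_mul, pk_mul, hw a ha, hw b hb]
  · rw [mul_assoc, sw_pk, ← mul_assoc, ← mul_assoc, pk_mul, pk_mul, hw a ha, hw b hb]

/-- An element commuting with the exchange, `(w, 1)` or `(w, w')` and the diagonal lies in the center. -/
theorem eq_of_comm (h : Base V w) {w' : Perm α} (hw' : w' = 1 ∨ w' = w * w) {g : Perm (α ⊕ α)}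
    (hg : g ∈ wr V) (h1 : g * sw = sw * g) (h2 : g * pk w w' = pk w w' * g)
    (h3 : ∀ x ∈ V, g * pk x x = pk x x * g) : g = 1 ∨ g = pk w w := by
  haveI : Nonempty α := nonempty_of_ne h.ne_one
  have hw1 : w' = 1 := hw'.elim id fun e => e.trans h.sq
  subst hw1
  obtain ⟨a, ha, b, hb, rfl | rfl⟩ := hg
  · rw [sw_pk] at h1
    obtain ⟨rfl, -⟩ := pk_mul_sw_inj h1
    have hc : ∀ y ∈ V, y * a = a * y := fun y hy => by
      have := h3 y hy; rw [pk_mul, pk_mul] at this; exact (pk_inj this).1.symm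
    rcases h.center a ha hc with rfl | rfl
    · exact .inl pk_one
    · exact .inr rfl
  · rw [mul_assoc, sw_pk, ← mul_assoc, ← mul_assoc, pk_mul, pk_mul] at h2
    have := (pk_mul_sw_inj h2).1
    rw [mul_one] at this
    exact absurd (right_eq_mul.1 (this.trans rfl)) h.ne_one

theorem center_wr (h : Base V w) (g : wr V) (hg : g ∈ Subgroup.center (wr V)) :
    (g : Perm (α ⊕ α)) = 1 ∨ (g : Perm (α ⊕ α)) = pk w w := by
  have hc : ∀ x ∈ wr V, (g : Perm (α ⊕ α)) * x = x * g := fun x hx =>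
    (congrArg Subtype.val (Subgroup.mem_center_iff.1 hg ⟨x, hx⟩)).symm
  exact eq_of_comm h (.inl rfl) g.2 (hc _ sw_mem) (hc _ (pk_mem h.mem (one_mem _)))
    fun x hx => hc _ (pk_mem hx hx)

theorem ncp_aux (h : Base V w) {A B : Subgroup (wr V)} (hBn : B.Normal)
    (hc : ∀ a ∈ A, ∀ b ∈ B, a * b = b * a) {g : wr V} (hg : g ∈ A) {a c : Perm α} (ha : a ∈ V) (hcV : c ∈ V)
    (hge : (g : Perm (α ⊕ α)) = pk a c * sw) {b : wr V} (hb : b ∈ B) {x y : Perm α} (hx : x ∈ V) (hy : y ∈ V)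
    (hbe : (b : Perm (α ⊕ α)) = pk x y) : b ∈ Subgroup.center (wr V) := by
  haveI : Nonempty α := nonempty_of_ne h.ne_one
  have key : ∀ b' ∈ B, ∀ x' y' : Perm α, ((b' : wr V) : Perm (α ⊕ α)) = pk x' y' →
      a * y' = x' * a ∧ c * x' = y' * c := by
    intro b' hb' x' y' he
    have := congrArg Subtype.val (hc g hg b' hb')
    simp only [Subgroup.coe_mul, hge, he] at this
    rw [mul_assoc, sw_pk, ← mul_assoc, ← mul_assoc, pk_mul, pk_mul] at this
    exact pk_mul_sw_inj this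
  obtain ⟨h1, h2⟩ := key b hb x y hbe
  have hcent : ∀ u ∈ V, u * x = x * u ∧ u * y = y * u := by
    intro u hu
    let u1 : wr V := ⟨pk u 1, pk_mem hu (one_mem _)⟩
    let u2 : wr V := ⟨pk 1 u, pk_mem (one_mem _) hu⟩
    have hinv : ((b : Perm (α ⊕ α)))⁻¹ = pk x⁻¹ y⁻¹ := by
      rw [hbe]; exact inv_eq_of_mul_eq_one_right (by rw [pk_mul]; simp)
    have huinv : (pk u 1 : Perm (α ⊕ α))⁻¹ = pk u⁻¹ 1 :=
      inv_eq_of_mul_eq_one_right (by rw [pk_mul]; simp)
    have huinv' : (pk 1 u : Perm (α ⊕ α))⁻¹ = pk 1 u⁻¹ :=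
      inv_eq_of_mul_eq_one_right (by rw [pk_mul]; simp)
    have m1 : u1 * b * u1⁻¹ * b⁻¹ ∈ B := mul_mem (hBn.conj_mem b hb u1) (inv_mem hb)
    have m2 : u2 * b * u2⁻¹ * b⁻¹ ∈ B := mul_mem (hBn.conj_mem b hb u2) (inv_mem hb)
    have e1 : ((u1 * b * u1⁻¹ * b⁻¹ : wr V) : Perm (α ⊕ α)) = pk (u * x * u⁻¹ * x⁻¹) 1 := by
      simp only [Subgroup.coe_mul, InvMemClass.coe_inv, u1]
      rw [hinv, huinv, hbe, pk_mul, pk_mul, pk_mul]
      congr 1 <;> group
    have e2 : ((u2 * b * u2⁻¹ * b⁻¹ : wr V) : Perm (α ⊕ α)) = pk 1 (u * y * u⁻¹ * y⁻¹) := by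
      simp only [Subgroup.coe_mul, InvMemClass.coe_inv, u2]
      rw [hinv, huinv', hbe, pk_mul, pk_mul, pk_mul]
      congr 1 <;> group
    have k1 := (key _ m1 _ _ e1).1
    have k2 := (key _ m2 _ _ e2).2
    rw [mul_one] at k1 k2
    constructor
    · have := mul_eq_one_iff_eq_inv.1 (mul_eq_right.1 k1.symm)
      rw [inv_inv, mul_inv_eq_iff_eq_mul] at this
      exact this
    · have := mul_eq_one_iff_eq_inv.1 (mul_eq_right.1 k2.symm)
      rw [inv_inv, mul_inv_eq_iff_eq_mul] at this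
      exact this
  have hxy : x = y := by
    rw [(hcent c hcV).1] at h2
    exact mul_right_cancel h2
  subst hxy
  refine Subgroup.mem_center_iff.2 fun q => Subtype.ext ?_
  simp only [Subgroup.coe_mul, hbe]
  exact zz_comm (fun u hu => (hcent u hu).1) q.2

theorem wr_nonab (h : Base V w) : (⟨pk w 1, pk_mem h.mem (one_mem _)⟩ : wr V) ∉ Subgroup.center (wr V) := by
  intro hc
  have := congrArg Subtype.val (Subgroup.mem_center_iff.1 hc ⟨sw, sw_mem⟩)
  simp only [Subgroup.coe_mul] at this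
  rw [sw_pk] at this
  exact h.ne_one (pk_mul_sw_inj this).2

theorem good_wr (h : Base V w) (hcard : Even (Fintype.card α)) :
    Good (sign.comp (wr V).subtype) (⟨pk w w, pk_mem h.mem h.mem⟩ : wr V) := by
  haveI : Nonempty α := nonempty_of_ne h.ne_one
  have hZ : (⟨pk w w, pk_mem h.mem h.mem⟩ : wr V) ∈ Subgroup.center (wr V) :=
    Subgroup.mem_center_iff.2 fun q => Subtype.ext (zz_comm h.comm q.2)
  refine ⟨fun e => h.ne_one (pk_inj ((congrArg Subtype.val e).trans pk_one.symm)).1, ?_, hZ, ?_, ?_, ?_,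
    ⟨_, wr_nonab h⟩, ?_⟩
  · intro x hx
    rcases center_wr h x hx with e | e
    · exact .inl (Subtype.ext e)
    · exact .inr (Subtype.ext e)
  · show sign (pk w w) = 1
    rw [sign_pk, Int.units_mul_self]
  · obtain ⟨v, hv, hv'⟩ := h.odd
    exact ⟨⟨pk v 1, pk_mem hv (one_mem _)⟩, show sign (pk v 1) = -1 by rw [sign_pk, map_one, mul_one, hv']⟩
  · refine ⟨⟨pk w 1, pk_mem h.mem (one_mem _)⟩, ⟨sw, sw_mem⟩, ?_, Subtype.ext ?_⟩
    · show sign (sw : Perm (α ⊕ α)) = 1
      rw [sign_sw, hcard.neg_one_pow]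
    · have h1 : (pk w 1 : Perm (α ⊕ α))⁻¹ = pk w 1 := inv_eq_of_mul_eq_one_right (by
        rw [pk_mul, h.sq, mul_one, pk_one])
      have h2 : (sw : Perm (α ⊕ α))⁻¹ = sw := inv_eq_of_mul_eq_one_right sw_sq
      simp only [commutatorElement_def, Subgroup.coe_mul, InvMemClass.coe_inv, h1, h2]
      rw [mul_assoc (pk w 1), sw_pk, mul_assoc, mul_assoc (pk 1 w), sw_sq, mul_one, pk_mul, mul_one, one_mul]
  · intro A B hc hs
    haveI hBn : B.Normal := normal_of_factor (fun b hb a ha => (hc a ha b hb).symm) (by rw [sup_comm, hs])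
    haveI hAn : A.Normal := normal_of_factor hc hs
    by_cases hA : ∃ g ∈ A, ∃ a ∈ V, ∃ c ∈ V, ((g : wr V) : Perm (α ⊕ α)) = pk a c * sw
    · by_cases hB : ∃ g ∈ B, ∃ a ∈ V, ∃ c ∈ V, ((g : wr V) : Perm (α ⊕ α)) = pk a c * sw
      · exfalso
        obtain ⟨g, hg, a, ha, c, hcV, hge⟩ := hA
        obtain ⟨g', hg', a', ha', c', hcV', hge'⟩ := hB
        have dec : ∀ (C : Subgroup (wr V)) (g : wr V), g ∈ C →
            (∃ a ∈ V, ∃ c ∈ V, (g : Perm (α ⊕ α)) = pk a c * sw) →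
            (∀ b ∈ C, (∃ x ∈ V, ∃ y ∈ V, ((b : wr V) : Perm (α ⊕ α)) = pk x y) → b ∈ Subgroup.center (wr V)) →
            ∀ b ∈ C, Commute b g := by
          rintro C g hg ⟨a, ha, c, hc, hge⟩ hbase b hb
          obtain ⟨x, hx, y, hy, e | e⟩ := b.2
          · exact (Subgroup.mem_center_iff.1 (hbase b hb ⟨x, hx, y, hy, e⟩) g).symm
          · have hq : b * g ∈ Subgroup.center (wr V) := hbase _ (mul_mem hb hg) ⟨x * c, mul_mem hx hc, y * a,
              mul_mem hy ha, by
                rw [Subgroup.coe_mul, e, hge, mul_assoc, ← mul_assoc sw, sw_pk, mul_assoc, sw_sq, mul_one, pk_mul]⟩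
            have := Subgroup.mem_center_iff.1 hq g
            rw [← mul_assoc] at this
            exact (mul_right_cancel this).symm
        have cA := dec A g hg ⟨a, ha, c, hcV, hge⟩ fun b hb ⟨x, hx, y, hy, e⟩ =>
          ncp_aux h hAn (fun p hp q hq => (hc q hq p hp).symm) hg' ha' hcV' hge' hb hx hy e
        have cB := dec B g' hg' ⟨a', ha', c', hcV', hge'⟩ fun b hb ⟨x, hx, y, hy, e⟩ =>
          ncp_aux h hBn hc hg ha hcV hge hb hx hy e
        have hgc : g ∈ Subgroup.center (wr V) := by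
          refine Subgroup.mem_center_iff.2 fun q => ?_
          obtain ⟨u, hu, v, hv, rfl⟩ := Subgroup.mem_sup_of_normal_left.1 (hs.symm ▸ Subgroup.mem_top q)
          exact ((cA u hu).mul_left (hc g hg v hv).symm).eq
        rcases center_wr h g hgc with e | e <;> rw [hge] at e
        · exact pk_ne_sw 1 1 a c (pk_one.trans e.symm)
        · exact pk_ne_sw w w a c e.symm
      · right
        push Not at hB
        obtain ⟨g, hg, a, ha, c, hcV, hge⟩ := hA
        intro b hb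
        obtain ⟨x, hx, y, hy, e | e⟩ := b.2
        · exact ncp_aux h hBn hc hg ha hcV hge hb hx hy e
        · exact absurd e (hB b hb x hx y hy)
    · push Not at hA
      by_cases hB : ∃ g ∈ B, ∃ a ∈ V, ∃ c ∈ V, ((g : wr V) : Perm (α ⊕ α)) = pk a c * sw
      · left
        obtain ⟨g, hg, a, ha, c, hcV, hge⟩ := hB
        intro b hb
        obtain ⟨x, hx, y, hy, e | e⟩ := b.2
        · exact ncp_aux h hAn (fun p hp q hq => (hc q hq p hp).symm) hg ha hcV hge hb hx hy e
        · exact absurd e (hA b hb x hx y hy)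
      · exfalso
        push Not at hB
        let base : Subgroup (wr V) :=
          { carrier := {g | ∃ x ∈ V, ∃ y ∈ V, (g : Perm (α ⊕ α)) = pk x y}
            one_mem' := ⟨1, one_mem _, 1, one_mem _, pk_one.symm⟩
            mul_mem' := by
              rintro p q ⟨x, hx, y, hy, e⟩ ⟨x', hx', y', hy', e'⟩
              exact ⟨_, mul_mem hx hx', _, mul_mem hy hy', by rw [Subgroup.coe_mul, e, e', pk_mul]⟩
            inv_mem' := by
              rintro p ⟨x, hx, y, hy, e⟩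
              exact ⟨_, inv_mem hx, _, inv_mem hy, by
                rw [InvMemClass.coe_inv, e]; exact inv_eq_of_mul_eq_one_right (by rw [pk_mul]; simp)⟩ }
        have hle : ∀ C : Subgroup (wr V),
            (∀ g ∈ C, ∀ a ∈ V, ∀ c ∈ V, ((g : wr V) : Perm (α ⊕ α)) ≠ pk a c * sw) → C ≤ base := by
          intro C hC g hg
          obtain ⟨x, hx, y, hy, e | e⟩ := g.2
          · exact ⟨x, hx, y, hy, e⟩
          · exact absurd e (hC g hg x hx y hy)
        obtain ⟨x, -, y, -, e⟩ : (⟨sw, sw_mem⟩ : wr V) ∈ base :=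
          (sup_le (hle A hA) (hle B hB)) (hs.symm ▸ Subgroup.mem_top _)
        exact pk_ne_sw x y 1 1 (by rw [pk_one, one_mul]; exact e.symm)

theorem base_wr (h : Base V w) : Base (wr V) (pk w w) where
  mem := pk_mem h.mem h.mem
  ne_one := fun e => h.ne_one (pk_inj (e.trans pk_one.symm)).1
  sq := by rw [pk_mul, h.sq, pk_one]
  comm := fun x hx => zz_comm h.comm hx
  center := fun x hx hc => center_wr h ⟨x, hx⟩
    (Subgroup.mem_center_iff.2 fun y => Subtype.ext (hc _ y.2))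
  odd := by
    obtain ⟨v, hv, hv'⟩ := h.odd
    exact ⟨pk v 1, pk_mem hv (one_mem _), by rw [sign_pk, map_one, mul_one, hv']⟩

theorem not_dec_wr_even (h : Base V w) (hw : sign w = 1) (hcard : Even (Fintype.card α))
    (hp : IsPGroup 2 (wr V)) : ¬ Dec (sign.comp (wr V).subtype).ker := by
  intro hd
  set K := (sign.comp (wr V).subtype).ker with hK
  obtain ⟨A, B, hA, hB, hc, hi, hs⟩ := hd
  have hsw : (⟨sw, sw_mem⟩ : wr V) ∈ K := by
    show sign (sw : Perm (α ⊕ α)) = 1
    rw [sign_sw, hcard.neg_one_pow]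
  have hcen : ∀ g : K, g ∈ Subgroup.center K → g = 1 ∨ ((g : wr V) : Perm (α ⊕ α)) = pk w w := by
    intro g hg
    have hcomm : ∀ x (hx : x ∈ wr V), sign x = 1 →
        ((g : wr V) : Perm (α ⊕ α)) * x = x * ((g : wr V) : Perm (α ⊕ α)) := fun x hx hs' =>
      congrArg (fun q : K => ((q : wr V) : Perm (α ⊕ α))) (Subgroup.mem_center_iff.1 hg ⟨⟨x, hx⟩, hs'⟩).symm
    rcases eq_of_comm h (.inl rfl) (g : wr V).2 (hcomm _ sw_mem hsw)
      (hcomm _ (pk_mem h.mem (one_mem _)) (by rw [sign_pk, hw, map_one, mul_one]))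
      (fun x hx => hcomm _ (pk_mem hx hx) (by rw [sign_pk, Int.units_mul_self])) with e | e
    · exact .inl (Subtype.ext (Subtype.ext e))
    · exact .inr e
  have key : ∀ C D : Subgroup K, C ≠ ⊥ → (∀ a ∈ C, ∀ b ∈ D, a * b = b * a) → C ⊔ D = ⊤ →
      ∃ c ∈ C, c ≠ 1 ∧ ((c : wr V) : Perm (α ⊕ α)) = pk w w := by
    intro C D hC hc hs
    haveI : Nontrivial C := (Subgroup.nontrivial_iff_ne_bot _).2 hC
    haveI : Fact (Nat.Prime 2) := ⟨Nat.prime_two⟩
    obtain ⟨⟨c, hcm⟩, hc1⟩ := @exists_ne _ ((hp.to_subgroup K).to_subgroup C).center_nontrivial 1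
    have hne : (c : K) ≠ 1 := fun e => hc1 (Subtype.ext (Subtype.ext e))
    refine ⟨c, c.2, hne, ?_⟩
    refine ((hcen c ?_).resolve_left hne)
    rw [Subgroup.mem_center_iff]
    intro q
    have hmem : q ∈ Subgroup.centralizer ({(c : K)} : Set K) := by
      have h' : C ⊔ D ≤ Subgroup.centralizer ({(c : K)} : Set K) := by
        refine sup_le (fun u hu => Subgroup.mem_centralizer_singleton_iff.2 ?_)
          (fun v hv => Subgroup.mem_centralizer_singleton_iff.2 ?_)
        · exact congrArg Subtype.val (Subgroup.mem_center_iff.1 hcm ⟨u, hu⟩)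
        · exact (hc c c.2 v hv).symm
      exact h' (hs.symm ▸ Subgroup.mem_top q)
    exact Subgroup.mem_centralizer_singleton_iff.1 hmem
  obtain ⟨a, ha, ha1, hae⟩ := key A B hA hc hs
  obtain ⟨b, hb, -, hbe⟩ := key B A hB (fun p hp q hq => (hc q hq p hp).symm) (by rw [sup_comm, hs])
  have hab : a = b := Subtype.ext (Subtype.ext (hae.trans hbe.symm))
  have : a ∈ A ⊓ B := ⟨ha, hab ▸ hb⟩
  rw [hi, Subgroup.mem_bot] at this
  exact ha1 this

end Cfsg.Agent.AltSylowDecomp
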