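/-
A model for the Sylow 2-subgroups of alternating groups, and their decomposability.
-/
import Cfsg.Agent.Lib.AltSylowDecomp.Wreath
import Cfsg.Agent.Lib.NilPerm.Alt
import Mathlib.Data.Nat.BitIndices
import Mathlib.Data.Fintype.Sum
import Mathlib.GroupTheory.SpecificGroups.Alternating

set_option autoImplicit false

namespace Cfsg.Agent.AltSylowDecomp

open Equiv Equiv.Perm

/-- The leaves of the binary tree of height `k`. -/
def T : ℕ → Type
  | 0 => Unit
  | k + 1 => T k ⊕ T k

instance decEqT : ∀ k, DecidableEq (T k)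
  | 0 => inferInstanceAs (DecidableEq Unit)
  | k + 1 => letI := decEqT k; inferInstanceAs (DecidableEq (T k ⊕ T k))

instance fintypeT : ∀ k, Fintype (T k)
  | 0 => inferInstanceAs (Fintype Unit)
  | k + 1 => letI := fintypeT k; inferInstanceAs (Fintype (T k ⊕ T k))

theorem card_T : ∀ k, Fintype.card (T k) = 2 ^ k
  | 0 => rfl
  | k + 1 => by
    show Fintype.card (T k ⊕ T k) = _
    rw [Fintype.card_sum, card_T k, pow_succ]; ring

instance nonemptyT (k : ℕ) : Nonempty (T k) :=
  Fintype.card_pos_iff.1 (by rw [card_T]; exact Nat.two_pow_pos k)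

/-- The iterated wreath product. -/
def W : (k : ℕ) → Subgroup (Perm (T k))
  | 0 => ⊥
  | k + 1 => wr (W k)

/-- Its central involution. -/
def cz : (k : ℕ) → Perm (T k)
  | 0 => 1
  | 1 => (sw : Perm (T 0 ⊕ T 0))
  | k + 2 => pk (cz (k + 1)) (cz (k + 1))

theorem card_W : ∀ k, Nat.card (W k) = 2 ^ (2 ^ k - 1)
  | 0 => by
    show Nat.card (⊥ : Subgroup (Perm (T 0))) = _
    rw [Subgroup.card_bot]; rfl
  | k + 1 => by
    show Nat.card (wr (W k)) = _
    rw [card_wr, card_W k, ← pow_mul, ← pow_succ']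
    have := Nat.two_pow_pos k
    congr 1
    rw [pow_succ]
    omega

theorem isPGroup_W (k : ℕ) : IsPGroup 2 (W k) := IsPGroup.of_card (card_W k)

theorem base_one : Base (W 1) (cz 1) := by
  show Base (wr (⊥ : Subgroup (Perm (T 0)))) (sw : Perm (T 0 ⊕ T 0))
  have key : ∀ x ∈ wr (⊥ : Subgroup (Perm (T 0))), x = 1 ∨ x = sw := by
    rintro x ⟨a, ha, b, hb, rfl | rfl⟩ <;> rw [Subgroup.mem_bot] at ha hb <;> subst ha <;> subst hb
    · exact .inl pk_one
    · exact .inr (by rw [pk_one, one_mul])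
  refine ⟨sw_mem, fun h => pk_ne_sw (α := T 0) 1 1 1 1 (by rw [pk_one, one_mul, h]), sw_sq, ?_,
    fun x hx _ => key x hx, ⟨sw, sw_mem, by rw [sign_sw, card_T, pow_zero, pow_one]⟩⟩
  intro x hx
  rcases key x hx with rfl | rfl <;> simp

theorem base_W : ∀ k, Base (W (k + 1)) (cz (k + 1))
  | 0 => base_one
  | k + 1 => base_wr (base_W k)

theorem even_card_T (k : ℕ) : Even (Fintype.card (T (k + 1))) := by
  rw [card_T, pow_succ']; exact even_two_mul _

theorem good_W : ∀ k, 2 ≤ k → ∃ z : W k, Good (sign.comp (W k).subtype) z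
  | 0, h => by omega
  | 1, h => by omega
  | k + 2, _ => ⟨⟨cz (k + 2), (base_W (k + 1)).mem⟩, good_wr (base_W k) (even_card_T k)⟩

theorem not_dec_W_even : ∀ k, 3 ≤ k → ¬ Dec (sign.comp (W k).subtype).ker
  | 0, h => by omega
  | 1, h => by omega
  | 2, h => by omega
  | k + 3, _ => not_dec_wr_even (base_W (k + 1))
      (show sign (pk (cz (k + 1)) (cz (k + 1))) = 1 by rw [sign_pk, Int.units_mul_self])
      (even_card_T (k + 1)) (isPGroup_W (k + 3))

theorem dec_W_two_even : Dec (sign.comp (W 2).subtype).ker := by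
  obtain ⟨z, hz⟩ := good_W 2 le_rfl
  have hb := base_W 0
  have hswe : sign (sw : Perm (T 1 ⊕ T 1)) = 1 := by rw [sign_sw, (even_card_T 0).neg_one_pow]
  let K := (sign.comp (W 2).subtype).ker
  let a : K := ⟨⟨sw, sw_mem⟩, hswe⟩
  let c : K := ⟨⟨pk (cz 1) (cz 1), pk_mem hb.mem hb.mem⟩, show sign (pk (cz 1) (cz 1)) = 1 by
    rw [sign_pk, Int.units_mul_self]⟩
  have ha2 : a * a = 1 := Subtype.ext (Subtype.ext sw_sq)
  have hc2 : c * c = 1 := Subtype.ext (Subtype.ext (by
    show pk (cz 1) (cz 1) * pk (cz 1) (cz 1) = 1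
    rw [pk_mul, hb.sq, pk_one]))
  have hac : a * c = c * a := Subtype.ext (Subtype.ext (sw_pk _ _))
  have hcard : Nat.card K = 4 := by
    have h1 := (sign.comp (W 2).subtype).ker.card_mul_index
    have hsurj : Function.Surjective (sign.comp (W 2).subtype) := by
      intro u
      rcases Int.units_eq_one_or u with h | h
      · exact ⟨1, by rw [map_one, h]⟩
      · obtain ⟨v, hv⟩ := hz.odd; exact ⟨v, hv.trans h.symm⟩
    rw [Subgroup.index_ker, MonoidHom.range_eq_top.2 hsurj, Subgroup.card_top, Nat.card_eq_fintype_card (α := ℤˣ),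
      Fintype.card_units_int, card_W] at h1
    show Nat.card (sign.comp (W 2).subtype).ker = 4
    omega
  have hne : a ≠ 1 ∧ c ≠ 1 ∧ a ≠ c := by
    refine ⟨fun e => pk_ne_sw (α := T 1) 1 1 1 1 ?_, fun e => hb.ne_one (pk_inj (a := cz 1) (b := cz 1) (c := 1) (d := 1) ?_).1,
      fun e => pk_ne_sw (α := T 1) (cz 1) (cz 1) 1 1 ?_⟩
    · rw [pk_one, one_mul]; exact (congrArg (fun q : K => ((q : W 2) : Perm (T 2))) e).symm
    · rw [pk_one]; exact congrArg (fun q : K => ((q : W 2) : Perm (T 2))) e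
    · rw [pk_one, one_mul]; exact (congrArg (fun q : K => ((q : W 2) : Perm (T 2))) e).symm
  have hord : orderOf a = 2 ∧ orderOf c = 2 :=
    ⟨orderOf_eq_prime (by rw [pow_two, ha2]) hne.1, orderOf_eq_prime (by rw [pow_two, hc2]) hne.2.1⟩
  have hmem : ∀ q : K, ∀ g ∈ Subgroup.zpowers q, q * q = 1 → g = 1 ∨ g = q := by
    rintro q g ⟨m, rfl⟩ hq
    rcases Int.even_or_odd' m with ⟨j, rfl | rfl⟩
    · exact .inl (by simp [zpow_mul, zpow_ofNat, pow_two, hq])
    · exact .inr (by simp [zpow_add, zpow_mul, zpow_ofNat, pow_two, hq])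
  refine ⟨Subgroup.zpowers a, Subgroup.zpowers c, Subgroup.zpowers_ne_bot.2 hne.1,
    Subgroup.zpowers_ne_bot.2 hne.2.1, ?_, ?_, ?_⟩
  · rintro x hx y hy
    rcases hmem a x hx ha2 with rfl | rfl <;> rcases hmem c y hy hc2 with rfl | rfl <;> simp [hac]
  · rw [eq_bot_iff]
    rintro x ⟨hx, hy⟩
    rcases hmem a x hx ha2 with rfl | rfl
    · exact one_mem _
    · rcases hmem c _ hy hc2 with e | e
      · exact absurd e hne.1
      · exact absurd e hne.2.2
  · apply Subgroup.eq_top_of_le_card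
    rw [hcard]
    haveI : Finite K := inferInstance
    have hlt : Subgroup.zpowers a < Subgroup.zpowers a ⊔ Subgroup.zpowers c := by
      refine lt_of_le_of_ne le_sup_left fun e => ?_
      rcases hmem a c (e.symm ▸ Subgroup.mem_sup_right (Subgroup.mem_zpowers c)) ha2 with e' | e'
      · exact hne.2.1 e'
      · exact hne.2.2 e'.symm
    have h1 := Subgroup.card_dvd_of_le hlt.le
    have h2 := Subgroup.card_subgroup_dvd_card (Subgroup.zpowers a ⊔ Subgroup.zpowers c)
    rw [Nat.card_zpowers, hord.1] at h1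
    rw [show Nat.card K = 4 from hcard] at h2
    have h3 : Nat.card ↥(Subgroup.zpowers a ⊔ Subgroup.zpowers c) ≠ 2 := fun e =>
      hlt.ne (Subgroup.eq_of_le_of_card_ge hlt.le (by rw [e, Nat.card_zpowers, hord.1]))
    obtain ⟨r, hr⟩ := h1
    obtain ⟨j, hj, hj'⟩ := (Nat.dvd_prime_pow Nat.prime_two (m := 2)).1 h2
    rcases (by omega : j = 0 ∨ j = 1 ∨ j = 2) with rfl | rfl | rfl
    · rw [hj', pow_zero] at hr; omega
    · exact absurd hj' (by simpa using h3)
    · exact hj'.ge

theorem ee_bits (N : ℕ) : NilPerm.ee N = (N.bitIndices.map fun k => 2 ^ k - 1).sum := by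
  induction N using Nat.strong_induction_on with
  | _ N ih =>
    have hm : ∀ m : ℕ, (m.bitIndices.map fun k => 2 ^ (k + 1) - 1).sum =
        (m.bitIndices.map fun k => 2 ^ k - 1).sum + m := by
      intro m
      conv_rhs => arg 2; rw [← Nat.sum_map_two_pow_bitIndices m]
      rw [← List.sum_map_add]
      congr 1
      refine List.map_congr_left fun k _ => ?_
      have := Nat.two_pow_pos k
      rw [pow_succ]; omega
    rcases Nat.even_or_odd' N with ⟨m, rfl | rfl⟩
    · rcases Nat.eq_zero_or_pos m with rfl | hpos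
      · simp [NilPerm.ee_zero]
      · rw [NilPerm.ee_two_mul, ih m (by omega), Nat.bitIndices_two_mul, List.map_map]
        exact (hm m).symm
    · rw [NilPerm.ee_two_mul_succ, ih m (by omega), Nat.bitIndices_two_mul_add_one, List.map_cons,
        List.map_map, List.sum_cons, pow_zero, Nat.sub_self, zero_add]
      exact (hm m).symm

variable (m : ℕ)

/-- The binary digits of `4m`. -/
abbrev Ix : Type := {k // k ∈ (4 * m).bitIndices.toFinset}

/-- The Sylow group of the symmetric group of degree `4m`. -/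
abbrev MM : Type := ∀ i : Ix m, W i.1

/-- Its sign. -/
abbrev MS : MM m →* ℤˣ := sgn fun i : Ix m => sign.comp (W i.1).subtype

theorem two_le_ix (i : Ix m) : 2 ≤ i.1 := by
  obtain ⟨v, hv⟩ := i
  have h := List.mem_toFinset.1 hv
  show 2 ≤ v
  rw [show 4 * m = 2 ^ 2 * m from rfl, Nat.bitIndices_two_pow_mul, List.mem_map] at h
  obtain ⟨k, -, e⟩ := h
  omega

theorem sum_ix : ∑ i : Ix m, 2 ^ i.1 = 4 * m := by
  rw [Finset.univ_eq_attach, Finset.sum_attach (f := fun k => 2 ^ k),
    List.sum_toFinset _ Nat.bitIndices_nodup, Nat.sum_map_two_pow_bitIndices]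

theorem card_MM : Nat.card (MM m) = 2 ^ NilPerm.ee (4 * m) := by
  rw [Nat.card_pi, Finset.prod_congr rfl fun i _ => card_W i.1, Finset.prod_pow_eq_pow_sum]
  congr 1
  rw [ee_bits, Finset.univ_eq_attach, Finset.sum_attach (f := fun k => 2 ^ k - 1),
    List.sum_toFinset _ Nat.bitIndices_nodup]

theorem nonempty_ix (hm : 1 ≤ m) : Nonempty (Ix m) := by
  by_contra h
  rw [not_nonempty_iff] at h
  have := sum_ix m
  rw [Finset.univ_eq_empty, Finset.sum_empty] at this
  omega

theorem card_ker (hm : 1 ≤ m) : 2 * Nat.card (MS m).ker = 2 ^ NilPerm.ee (4 * m) := by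
  obtain ⟨i⟩ := nonempty_ix m hm
  obtain ⟨z, hz⟩ := good_W i.1 (two_le_ix m i)
  obtain ⟨v, hv⟩ := hz.odd
  have hsurj : Function.Surjective (MS m) := by
    intro u
    rcases Int.units_eq_one_or u with h | h
    · exact ⟨1, by rw [map_one, h]⟩
    · exact ⟨Pi.mulSingle i v, by rw [sgn_single, hv, h]⟩
  have h1 := (MS m).ker.card_mul_index
  rw [Subgroup.index_ker, MonoidHom.range_eq_top.2 hsurj, Subgroup.card_top, Nat.card_eq_fintype_card (α := ℤˣ),
    Fintype.card_units_int, card_MM] at h1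
  omega

/-- The action on the leaves. -/
def act : MM m →* Perm (Σ i : Ix m, T i.1) :=
  (sigmaCongrRightHom fun i : Ix m => T i.1).comp (MonoidHom.piMap fun i : Ix m => (W i.1).subtype)

theorem act_injective : Function.Injective (act m) := fun x y h =>
  funext fun i => Subtype.ext (congrFun (sigmaCongrRightHom_injective h) i)

theorem sign_sigma {ι : Type} [Fintype ι] [DecidableEq ι] {β : ι → Type} [∀ i, Fintype (β i)]
    [∀ i, DecidableEq (β i)] (f : ∀ i, Perm (β i)) :
    sign (sigmaCongrRightHom β f) = ∏ i, sign (f i) := by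
  have h : (sign.comp (sigmaCongrRightHom β)) = sgn (fun i => (sign : Perm (β i) →* ℤˣ)) := by
    refine MonoidHom.ext fun x => ?_
    refine Subgroup.pi_mem_of_mulSingle_mem (H := MonoidHom.eqLocus _ _) x fun i => ?_
    show sign.comp (sigmaCongrRightHom β) (Pi.mulSingle i (x i)) = sgn (fun i => (sign : Perm (β i) →* ℤˣ)) _
    generalize x i = g
    rw [sgn_single]
    induction g using Perm.swap_induction_on with
    | one => rw [Pi.mulSingle_one, map_one, map_one]
    | swap_mul g x y hxy ih =>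
      rw [Pi.mulSingle_mul, map_mul, ih, map_mul]
      congr 1
      rw [sign_swap hxy, MonoidHom.comp_apply]
      have : sigmaCongrRightHom β (Pi.mulSingle i (Equiv.swap x y)) = Equiv.swap ⟨i, x⟩ ⟨i, y⟩ := by
        ext1 ⟨j, p⟩
        show (⟨j, (Pi.mulSingle i (Equiv.swap x y) : ∀ i, Perm (β i)) j p⟩ : Σ i, β i) = _
        by_cases hji : j = i
        · subst hji
          rw [Pi.mulSingle_eq_same]
          simp only [Equiv.swap_apply_def, Sigma.mk.injEq, heq_eq_eq, true_and]
          split_ifs <;> rfl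
        · rw [Pi.mulSingle_eq_of_ne hji, Perm.one_apply,
            Equiv.swap_apply_of_ne_of_ne (by simp [hji]) (by simp [hji])]
      rw [this, sign_swap (by simpa using hxy)]
  exact (DFunLike.congr_fun h f).trans (sgn_apply _ f)

theorem sign_act (x : MM m) : sign (act m x) = MS m x := by
  rw [sgn_apply]
  exact sign_sigma _

theorem ker_equiv_model {n r : ℕ} (hn : n = 4 * m + r) :
    ∃ e : Perm ((Σ i : Ix m, T i.1) ⊕ Fin r) ≃* Perm (Fin n), ∀ σ, sign (e σ) = sign σ := by
  have hc : Fintype.card ((Σ i : Ix m, T i.1) ⊕ Fin r) = n := by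
    rw [Fintype.card_sum, Fintype.card_sigma, Fintype.card_fin, Finset.sum_congr rfl fun i _ => card_T i.1,
      sum_ix, hn]
  exact ⟨(Fintype.equivFinOfCardEq hc).permCongrHom, fun σ => sign_permCongr _ σ⟩

theorem ee_add_small {n r : ℕ} (hn : n = 4 * m + r) (hr : r < 4) :
    NilPerm.ee n = NilPerm.ee (4 * m) + r / 2 := by
  subst hn
  have h4 : NilPerm.ee (4 * m) = NilPerm.ee m + 3 * m := NilPerm.ee_four_mul m
  rcases (by omega : r = 0 ∨ r = 1 ∨ r = 2 ∨ r = 3) with rfl | rfl | rfl | rfl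
  · rfl
  · rw [show 4 * m + 1 = 2 * (2 * m) + 1 by ring]
    simp only [NilPerm.ee_two_mul, NilPerm.ee_two_mul_succ]
    omega
  · rw [show 4 * m + 2 = 2 * (2 * m + 1) by ring]
    simp only [NilPerm.ee_two_mul, NilPerm.ee_two_mul_succ]
    omega
  · rw [show 4 * m + 3 = 2 * (2 * m + 1) + 1 by ring]
    simp only [NilPerm.ee_two_mul_succ]
    omega

theorem sylow_equiv_of_injective {n : ℕ} (hn : 2 ≤ n) {Q : Type} [Group Q]
    (P : Sylow 2 (alternatingGroup (Fin n))) (f : Q →* Perm (Fin n)) (hf : Function.Injective f)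
    (heven : ∀ q, sign (f q) = 1) (hcard : 2 * Nat.card Q = 2 ^ NilPerm.ee n) :
    Nonempty (Q ≃* P) := by
  haveI : Fact (Nat.Prime 2) := ⟨Nat.prime_two⟩
  let g : Q →* alternatingGroup (Fin n) := f.codRestrict _ fun q => mem_alternatingGroup.2 (heven q)
  have hg : Function.Injective g := fun a b h => hf (congrArg Subtype.val h)
  let P' : Sylow 2 (alternatingGroup (Fin n)) := Sylow.ofCard g.range (by
    rw [Nat.card_congr (MonoidHom.ofInjective hg).symm.toEquiv]
    have h1 := hcard
    rw [← NilPerm.factorization_alt hn, pow_succ'] at h1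
    exact Nat.eq_of_mul_eq_mul_left two_pos h1)
  exact ⟨(MonoidHom.ofInjective hg).trans (P'.equiv P)⟩

theorem sylow_equiv_low {n r : ℕ} (hm : 1 ≤ m) (hn : n = 4 * m + r) (hr : r < 2)
    (P : Sylow 2 (alternatingGroup (Fin n))) : Nonempty ((MS m).ker ≃* P) := by
  obtain ⟨e, he⟩ := ker_equiv_model m hn
  let f : MM m →* Perm (Fin n) :=
    (e.toMonoidHom.comp (sumCongrHom _ _)).comp ((act m).prod 1)
  refine sylow_equiv_of_injective (by omega) P (f.comp (MS m).ker.subtype) ?_ ?_ ?_
  · intro a b h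
    exact Subtype.ext (act_injective m (congrArg Prod.fst (sumCongrHom_injective (e.injective h))))
  · intro q
    show sign (e (sumCongrHom _ _ (act m q, 1))) = 1
    rw [he]
    show sign (Equiv.sumCongr (act m q) (1 : Perm (Fin r))) = 1
    rw [sign_sumCongr, map_one, mul_one, sign_act]
    exact q.2
  · rw [card_ker m hm, ee_add_small m hn (by omega)]
    congr 1; omega

theorem sylow_equiv_high {n r : ℕ} (hn : n = 4 * m + r) (hr : r < 4) (hr2 : 2 ≤ r)
    (P : Sylow 2 (alternatingGroup (Fin n))) : Nonempty (MM m ≃* P) := by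
  obtain ⟨e, he⟩ := ker_equiv_model m hn
  let t : Perm (Fin r) := Equiv.swap ⟨0, by omega⟩ ⟨1, by omega⟩
  have ht : t * t = 1 := Equiv.swap_mul_self _ _
  let τ : ℤˣ →* Perm (Fin r) :=
    { toFun := fun u => if u = 1 then 1 else t
      map_one' := if_pos rfl
      map_mul' := fun u v => by
        rcases Int.units_eq_one_or u with rfl | rfl <;> rcases Int.units_eq_one_or v with rfl | rfl <;>
          simp [ht] }
  let f : MM m →* Perm (Fin n) :=
    (e.toMonoidHom.comp (sumCongrHom _ _)).comp ((act m).prod (τ.comp (MS m)))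
  refine sylow_equiv_of_injective (by omega) P f ?_ ?_ ?_
  · intro a b h
    exact act_injective m (congrArg Prod.fst (sumCongrHom_injective (e.injective h)))
  · intro q
    show sign (e (sumCongrHom _ _ (act m q, τ (MS m q)))) = 1
    rw [he]
    show sign (Equiv.sumCongr (act m q) (τ (MS m q))) = 1
    rw [sign_sumCongr, sign_act]
    rcases Int.units_eq_one_or (MS m q) with h | h <;> rw [h]
    · simp [τ]
    · have : τ (-1) = t := by simp [τ]
      rw [this, sign_swap (by simp [Fin.ext_iff])]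
      decide
  · rw [card_MM, ee_add_small m hn hr, show r / 2 = 1 by omega, pow_succ']

theorem single_ix_iff (hm : 1 ≤ m) :
    (∀ i j : Ix m, i = j) ↔ ∃ k, 4 * m = 2 ^ k := by
  constructor
  · intro h
    obtain ⟨i⟩ := nonempty_ix m hm
    refine ⟨i.1, ?_⟩
    exact (sum_ix m).symm.trans (Fintype.sum_eq_single i fun j hj => absurd (h j i) hj)
  · rintro ⟨k, hk⟩ i j
    have hb : (4 * m).bitIndices = [k] := by rw [hk, Nat.bitIndices_two_pow]
    obtain ⟨u, hu⟩ := i
    obtain ⟨v, hv⟩ := j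
    have hi := List.mem_toFinset.1 hu
    have hj := List.mem_toFinset.1 hv
    rw [hb, List.mem_singleton] at hi hj
    exact Subtype.ext (hi.trans hj.symm)

theorem dec_MM (hm : 1 ≤ m) : Dec (MM m) ↔ ¬ ∃ k, 4 * m = 2 ^ k := by
  rw [← single_ix_iff m hm]
  constructor
  · intro hd h
    obtain ⟨i⟩ := nonempty_ix m hm
    haveI : Unique (Ix m) := ⟨⟨i⟩, fun j => h j i⟩
    obtain ⟨z, hz⟩ := good_W (default : Ix m).1 (two_le_ix m default)
    exact not_dec_of_good hz (hd.congr (MulEquiv.piUnique fun i : Ix m => ↥(W i.1)))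
  · intro h
    push Not at h
    obtain ⟨i, j, hij⟩ := h
    haveI : ∀ i : Ix m, Nontrivial (W i.1) := fun i => by
      obtain ⟨z, hz⟩ := good_W i.1 (two_le_ix m i)
      exact ⟨⟨z, 1, hz.ne_one⟩⟩
    exact dec_pi (G := fun i : Ix m => ↥(W i.1)) hij

theorem dec_ker (hm : 1 ≤ m) : Dec (MS m).ker ↔ m = 1 := by
  by_cases h : ∀ i j : Ix m, i = j
  · obtain ⟨i⟩ := nonempty_ix m hm
    haveI : Unique (Ix m) := ⟨⟨i⟩, fun j => h j i⟩
    have hk : 2 ^ (default : Ix m).1 = 4 * m := by
      exact ((Fintype.sum_unique _).symm.trans (sum_ix m))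
    let φ : MM m ≃* W (default : Ix m).1 := MulEquiv.piUnique fun i : Ix m => ↥(W i.1)
    have hker : (MS m).ker.map φ.toMonoidHom = (sign.comp (W (default : Ix m).1).subtype).ker := by
      ext w
      rw [Subgroup.mem_map_equiv, MonoidHom.mem_ker, MonoidHom.mem_ker, sgn_apply, Fintype.prod_unique]
      have : φ.symm w default = w := φ.apply_symm_apply w
      rw [this]
    rw [dec_congr (((MS m).ker.equivMapOfInjective φ.toMonoidHom φ.injective).trans
      (MulEquiv.subgroupCongr hker))]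
    have h2 := two_le_ix m (default : Ix m)
    generalize (default : Ix m).1 = k at hk h2 ⊢
    constructor
    · intro hd
      by_contra hne
      refine not_dec_W_even k ?_ hd
      by_contra h3
      rw [show k = 2 by omega] at hk
      omega
    · intro h1
      subst h1
      rw [show k = 2 by exact Nat.pow_right_injective le_rfl (hk.trans (by norm_num))]
      exact dec_W_two_even
  · refine iff_of_false ?_ fun h1 => h ((single_ix_iff m hm).2 ⟨2, by rw [h1]; rfl⟩)
    push Not at h
    obtain ⟨i, j, hij⟩ := h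
    choose z hz using fun i : Ix m => good_W i.1 (two_le_ix m i)
    exact not_dec_kernel hz hij

end Cfsg.Agent.AltSylowDecomp
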